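import Cfsg.Agent.H37.HT.Fd
import Cfsg.Agent.H334.Moved.Orth
import Cfsg.Agent.H483.HT.Rep

/-!
# S4933, part (O), orthogonal groups: the eigenvalues on the natural module (helper683)
-/

set_option autoImplicit false

namespace Cfsg.Agent.H683.HT

open QuadraticMap Module Polynomial Cfsg.Agent.LieClassical.OrthCore Cfsg.Agent.LieClassical.OrthTrans
  Cfsg.Agent.LieClassical.OrthSimple Cfsg.Agent.ClassicalGeometry.OrthSemi
open Cfsg.Agent.H37.HT Cfsg.Agent.H316.HT

/-! ### Polynomials -/

section Poly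

variable {F K : Type*} [Field F] [Field K] [IsAlgClosed K] [Algebra F K]

theorem roots_map_frob [Fintype F] (g : F[X]) :
    ((g.map (algebraMap F K)).roots.map fun a => a ^ Fintype.card F) = (g.map (algebraMap F K)).roots := by
  have h1 := (IsAlgClosed.splits (g.map (algebraMap F K))).roots_map
    (FiniteField.frobeniusAlgHom F K : K →+* K)
  rw [Polynomial.map_map, AlgHom.comp_algebraMap] at h1
  exact h1.symm

theorem roots_map_frobenius {r : ℕ} (hr : r.Prime) [CharP K r] (σ : F ≃+* F) (hσ : ∀ x, σ x = x ^ r) (g : F[X]) :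
    ((g.map (σ : F →+* F)).map (algebraMap F K)).roots = (g.map (algebraMap F K)).roots.map fun a => a ^ r := by
  have : Fact r.Prime := ⟨hr⟩
  have h1 := (IsAlgClosed.splits (g.map (algebraMap F K))).roots_map (frobenius K r)
  have h2 : (frobenius K r).comp (algebraMap F K) = (algebraMap F K).comp (σ : F →+* F) := by
    ext x
    simp [hσ, frobenius_def]
  rw [Polynomial.map_map, h2, ← Polynomial.map_map] at h1
  rw [h1]
  rfl

end Poly

/-! ### The polynomial of a conjugate -/

section Conj

variable {F V : Type*} [Field F] [AddCommGroup V] [Module F V] [FiniteDimensional F V] {Q : QuadraticForm F V}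

theorem charpoly_conjLin (M : Gam Q) {σ : F ≃+* F} {c : F} (hM : IsSS Q σ c M.1) (h : V ≃ₗ[F] V) :
    ((conjLin M h : V ≃ₗ[F] V) : V →ₗ[F] V).charpoly = ((h : V →ₗ[F] V).charpoly).map (σ : F →+* F) := by
  classical
  let b := Module.finBasis F V
  let Ma : V →+ V := { toFun := M.1, map_zero' := hM.map_zero, map_add' := hM.add }
  have hsum : ∀ (g : Fin (finrank F V) → F), M.1 (∑ i, g i • b i) = ∑ i, σ (g i) • M.1 (b i) := by
    intro g
    have h1 : Ma (∑ i, g i • b i) = ∑ i, σ (g i) • M.1 (b i) := by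
      rw [map_sum]
      refine Finset.sum_congr rfl fun i _ => ?_
      exact hM.smul _ _
    exact h1
  have hli : LinearIndependent F (fun i => M.1 (b i)) := by
    rw [Fintype.linearIndependent_iff]
    intro g hg i
    have h1 : M.1 (∑ i, σ.symm (g i) • b i) = 0 := by
      rw [hsum, ← hg]
      refine Finset.sum_congr rfl fun i _ => ?_
      rw [RingEquiv.apply_symm_apply]
    have h2 : ∑ i, σ.symm (g i) • b i = 0 := M.1.injective (by rw [h1, hM.map_zero])
    have h3 := Fintype.linearIndependent_iff.1 b.linearIndependent _ h2 i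
    have h4 := congrArg σ h3
    rwa [RingEquiv.apply_symm_apply, map_zero] at h4
  let b' := Basis.mk hli (hli.span_eq_top_of_card_eq_finrank' (by simp)).ge
  have hb' : ∀ i, b' i = M.1 (b i) := fun i => by simp [b']
  have key : ((conjLin M h : V ≃ₗ[F] V) : V →ₗ[F] V) =
      Matrix.toLin b' b' ((LinearMap.toMatrix b b (h : V →ₗ[F] V)).map σ) := by
    apply b'.ext
    intro j
    rw [Matrix.toLin_self, hb']
    show conjLin M h (M.1 (b j)) = _
    rw [conjLin_apply']
    have h1 : h (b j) = ∑ i, (LinearMap.toMatrix b b (h : V →ₗ[F] V)) i j • b i := by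
      have h2 := Matrix.toLin_self b b (LinearMap.toMatrix b b (h : V →ₗ[F] V)) j
      rw [Matrix.toLin_toMatrix] at h2
      exact h2
    rw [h1, hsum]
    refine Finset.sum_congr rfl fun i _ => ?_
    rw [hb']
    rfl
  rw [key, ← LinearMap.charpoly_toMatrix _ b', LinearMap.toMatrix_toLin, ← LinearMap.charpoly_toMatrix _ b]
  exact Matrix.charpoly_map _ (σ : F →+* F)

end Conj

/-! ### The representation -/

section Rep

variable {F V : Type*} [Field F] [AddCommGroup V] [Module F V] [FiniteDimensional F V]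

/-- the natural representation over `K` -/
noncomputable def rho (Q : QuadraticForm F V) (K : Type*) [Field K] [Algebra F K] :
    ↥(E Q) →* (Matrix (Fin (finrank F V)) (Fin (finrank F V)) K)ˣ :=
  ((Units.map ((algebraMap F K).mapMatrix : Matrix (Fin (finrank F V)) (Fin (finrank F V)) F →+*
      Matrix (Fin (finrank F V)) (Fin (finrank F V)) K).toMonoidHom).comp
    (Units.map (LinearMap.toMatrixAlgEquiv (finBasis F V)).toRingEquiv.toRingHom.toMonoidHom)).comp
    ((LinearMap.GeneralLinearGroup.generalLinearEquiv F V).symm.toMonoidHom.comp (E Q).subtype)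

theorem charpoly_rho {Q : QuadraticForm F V} (K : Type*) [Field K] [Algebra F K] (t : ↥(E Q)) :
    (rho Q K t : Matrix (Fin (finrank F V)) (Fin (finrank F V)) K).charpoly =
      ((t.1 : V →ₗ[F] V).charpoly).map (algebraMap F K) := by
  have h1 : (rho Q K t : Matrix (Fin (finrank F V)) (Fin (finrank F V)) K) =
      (LinearMap.toMatrix (finBasis F V) (finBasis F V) (t.1 : V →ₗ[F] V)).map (algebraMap F K) := rfl
  rw [h1, Matrix.charpoly_map, LinearMap.charpoly_toMatrix]

end Rep

/-! ### The eigenvalue data -/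

section Ed

variable {F V K : Type} [Field F] [Fintype F] [AddCommGroup V] [Module F V] [FiniteDimensional F V]
  {Q : QuadraticForm F V} [Field K] [IsAlgClosed K] [Algebra F K]

theorem finite_E (Q : QuadraticForm F V) : Finite ↥(E Q) := by
  have h1 : Finite V := Module.finite_of_finite F
  have h2 : Finite (V ≃ₗ[F] V) := Finite.of_injective (fun e : V ≃ₗ[F] V => (e : V → V)) DFunLike.coe_injective
  infer_instance

theorem cast_ne_zero_of_card {p : ℕ} (hp : p.Prime) (hpF : ¬ p ∣ Fintype.card F) : (p : K) ≠ 0 := by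
  have h1 : (p : F) ≠ 0 := by
    intro h
    have : CharP F p := (CharP.charP_iff_prime_eq_zero hp).2 h
    exact hpF ((CharP.cast_eq_zero_iff F p _).1 (by simp))
  intro h
  apply h1
  have h2 : algebraMap F K (p : F) = 0 := by rw [map_natCast]; exact h
  exact (map_eq_zero _).1 h2

theorem not_dvd_center (hG : Good Q) {p : ℕ} [hp : Fact p.Prime] (hp2 : p ≠ 2) :
    ¬ p ∣ Nat.card (QuotientGroup.mk' (Subgroup.center ↥(E Q))).ker := by
  rw [QuotientGroup.ker_mk']
  intro h
  have := finite_E Q
  obtain ⟨⟨z, hz⟩, ho⟩ := exists_prime_orderOf_dvd_card' p h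
  rw [Subgroup.orderOf_mk] at ho
  have h1 : z ^ 2 = 1 := by rw [pow_two]; exact Cfsg.Agent.H334.Moved.center_sq hG hz
  have h2 := orderOf_dvd_of_pow_eq_one h1
  rw [ho] at h2
  exact hp2 ((Nat.prime_dvd_prime_iff_eq hp.out Nat.prime_two).1 h2)

/-- the eigenvalue data of the natural module -/
theorem exists_ed (hG : Good Q) {p r f : ℕ} [hp : Fact p.Prime] (hp2 : p ≠ 2) (hpF : ¬ p ∣ Fintype.card F)
    (hF : Fintype.card F = r ^ f) (hab : AbSyl p (↥(E Q) ⧸ Subgroup.center ↥(E Q))) :
    ∃ D : ED p r f (↥(E Q) ⧸ Subgroup.center ↥(E Q)) K,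
      (∀ t : ↥(E Q), IsP p t → D.E (QuotientGroup.mk t) =
        (((t.1 : V →ₗ[F] V).charpoly).map (algebraMap F K)).roots) ∧
      (∀ x : ↥(E Q) ⧸ Subgroup.center ↥(E Q), IsP p x → ∃ t : ↥(E Q), IsP p t ∧ QuotientGroup.mk t = x) := by
  have := finite_E Q
  obtain ⟨Ef, h1, h2, h3, h4⟩ := Cfsg.Agent.H483.HT.exists_lin hab (QuotientGroup.mk' (Subgroup.center ↥(E Q)))
    (QuotientGroup.mk'_surjective _) (by
      rw [QuotientGroup.ker_mk']
      intro z hz x
      exact ((Subgroup.mem_center_iff.1 hz) x).symm) (not_dvd_center hG hp2)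
    (cast_ne_zero_of_card (F := F) (K := K) hp.out hpF) (rho Q K)
  have h5 : ∀ t : ↥(E Q), IsP p t → Ef (QuotientGroup.mk t) =
      (((t.1 : V →ₗ[F] V).charpoly).map (algebraMap F K)).roots := by
    intro t ht
    rw [← charpoly_rho K t]
    exact h1 t ht
  refine ⟨⟨Ef, h3, fun P => ⟨_, h4 P⟩, ?_⟩, h5, h2⟩
  intro x hx
  obtain ⟨t, ht, rfl⟩ := h2 x hx
  have h6 := h5 t ht
  change (Multiset.map (fun a => a ^ r ^ f) (Ef (QuotientGroup.mk t))) = Ef (QuotientGroup.mk t)
  rw [h6, ← hF]
  exact roots_map_frob _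

end Ed

end Cfsg.Agent.H683.HT
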